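import Mathlib

/-!
Elements of primitive-prime-divisor order in `GL(V)`, `V` a vector space of dimension `n` over a
finite field with `q` elements: if `x ^ r = 1`, `x ≠ 1`, `r` prime and `q` has order `n` modulo `r`
then `x` acts irreducibly, `F[x]` is a commutative domain of `F`-dimension `n`
and it is the whole centraliser algebra of `x`.
-/

set_option autoImplicit false

namespace Cfsg.Agent.Lib.Helper99

open Module

section irred
variable {F V : Type*} [Field F] [AddCommGroup V] [Module F V]

/-- `x` acts irreducibly on `V`: the only invariant subspaces are `⊥` and `⊤`. -/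
def ActsIrred (x : Module.End F V) : Prop :=
  ∀ W : Submodule F V, W.map x ≤ W → W = ⊥ ∨ W = ⊤

variable {x : Module.End F V}

lemma commute_apply {c d : Module.End F V} (h : Commute c d) (w : V) : c (d w) = d (c w) := by
  have := congrArg (fun f : Module.End F V => f w) h.eq
  simpa using this

lemma eq_zero_of_commute_of_apply_eq_zero (hx : ActsIrred x) {c : Module.End F V}
    (hc : Commute c x) {v : V} (hv : v ≠ 0) (hcv : c v = 0) : c = 0 := by
  have hinv : (LinearMap.ker c).map x ≤ LinearMap.ker c := by
    rintro _ ⟨w, hw, rfl⟩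
    have hw' : c w = 0 := hw
    change c (x w) = 0
    rw [commute_apply hc, hw', map_zero]
  rcases hx _ hinv with h | h
  · exfalso
    apply hv
    have : v ∈ LinearMap.ker c := hcv
    rw [h] at this
    simpa using this
  · exact LinearMap.ker_eq_top.mp h

lemma exists_adjoin_apply_eq (hx : ActsIrred x) {v : V} (hv : v ≠ 0) (w : V) :
    ∃ p ∈ Algebra.adjoin F {x}, p v = w := by
  let ev : Module.End F V →ₗ[F] V := LinearMap.applyₗ v
  let W : Submodule F V := (Subalgebra.toSubmodule (Algebra.adjoin F {x})).map ev
  have hinv : W.map x ≤ W := by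
    rintro _ ⟨_, ⟨p, hp, rfl⟩, rfl⟩
    exact ⟨x * p, (Algebra.adjoin F {x}).mul_mem (Algebra.self_mem_adjoin_singleton F x) hp, rfl⟩
  have hvW : v ∈ W := ⟨1, (Algebra.adjoin F {x}).one_mem, rfl⟩
  rcases hx W hinv with h | h
  · exfalso
    rw [h] at hvW
    exact hv (by simpa using hvW)
  · have : w ∈ W := by rw [h]; trivial
    obtain ⟨p, hp, rfl⟩ := this
    exact ⟨p, hp, rfl⟩

lemma commute_of_mem_adjoin {p : Module.End F V} (hp : p ∈ Algebra.adjoin F {x}) : Commute p x :=
  (Algebra.commute_of_mem_adjoin_self hp).symm

lemma mem_adjoin_of_commute [Nontrivial V] (hx : ActsIrred x) {c : Module.End F V}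
    (hc : Commute c x) : c ∈ Algebra.adjoin F {x} := by
  obtain ⟨v, hv⟩ := exists_ne (0 : V)
  obtain ⟨p, hp, hpv⟩ := exists_adjoin_apply_eq hx hv (c v)
  have hpc : Commute p x := commute_of_mem_adjoin hp
  have : c - p = 0 :=
    eq_zero_of_commute_of_apply_eq_zero hx (hc.sub_left hpc) hv (by simp [hpv])
  rw [sub_eq_zero.mp this]; exact hp

lemma injective_of_commute (hx : ActsIrred x) {c : Module.End F V} (hc : Commute c x)
    (hc0 : c ≠ 0) : Function.Injective c := by
  rw [injective_iff_map_eq_zero]
  intro v hv
  by_contra hv0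
  exact hc0 (eq_zero_of_commute_of_apply_eq_zero hx hc hv0 hv)

/-- evaluation at a nonzero vector is a linear equivalence `F[x] ≃ V`. -/
noncomputable def evEquiv (hx : ActsIrred x) {v : V} (hv : v ≠ 0) :
    (Algebra.adjoin F {x}) ≃ₗ[F] V :=
  LinearEquiv.ofBijective
    ((LinearMap.applyₗ v : Module.End F V →ₗ[F] V).comp (Algebra.adjoin F {x}).val.toLinearMap)
    ⟨by
      rw [injective_iff_map_eq_zero]
      intro p hp
      exact Subtype.ext (eq_zero_of_commute_of_apply_eq_zero hx (commute_of_mem_adjoin p.2) hv hp),
     by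
      intro w
      obtain ⟨p, hp, hpw⟩ := exists_adjoin_apply_eq hx hv w
      exact ⟨⟨p, hp⟩, hpw⟩⟩

lemma evEquiv_apply (hx : ActsIrred x) {v : V} (hv : v ≠ 0) (p : Algebra.adjoin F {x}) :
    evEquiv hx hv p = (p : Module.End F V) v := rfl

lemma finrank_adjoin [Nontrivial V] (hx : ActsIrred x) :
    finrank F (Algebra.adjoin F {x}) = finrank F V := by
  obtain ⟨v, hv⟩ := exists_ne (0 : V)
  exact (evEquiv hx hv).finrank_eq

/-- the commutative ring structure on `F[x]`. -/
noncomputable abbrev adjoinCommRing (x : Module.End F V) : CommRing (Algebra.adjoin F {x}) :=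
  Algebra.adjoinCommRingOfComm F (by
    intro a ha b hb
    rw [Set.mem_singleton_iff] at ha hb
    rw [ha, hb])

lemma noZeroDivisors_adjoin (hx : ActsIrred x) : NoZeroDivisors (Algebra.adjoin F {x}) := by
  refine ⟨fun {a b} hab => ?_⟩
  by_cases ha : a = 0
  · exact Or.inl ha
  right
  have ha' : (a : Module.End F V) ≠ 0 := fun h => ha (Subtype.ext h)
  have hinj := injective_of_commute hx (commute_of_mem_adjoin a.2) ha'
  apply Subtype.ext
  ext w
  apply hinj
  have := congrArg (fun f : Algebra.adjoin F {x} => (f : Module.End F V) w) hab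
  simpa using this

end irred

section ppd
variable {F V : Type*} [Field F] [Fintype F] [AddCommGroup V] [Module F V] [FiniteDimensional F V]

lemma card_modEq (y : Module.End F V) (r : ℕ) [hr : Fact r.Prime] (hy : y ^ r = 1) :
    (Fintype.card F) ^ finrank F V ≡ (Fintype.card F) ^ finrank F (LinearMap.ker (y - 1)) [MOD r] := by
  haveI : Finite V := Module.finite_of_finite F
  let u : (Module.End F V)ˣ := Units.ofPowEqOne y r hy hr.out.ne_zero
  have hu : (u : Module.End F V) = y := rfl
  have hur : u ^ r = 1 := by ext1; simp [hu, hy]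
  let G := Subgroup.zpowers u
  have hG : IsPGroup r G := by
    rintro ⟨g, k, rfl⟩
    refine ⟨1, ?_⟩
    ext1
    change (u ^ k) ^ r ^ 1 = 1
    rw [pow_one, ← zpow_natCast, ← zpow_mul, mul_comm, zpow_mul, zpow_natCast, hur, one_zpow]
  have h1 := hG.card_modEq_card_fixedPoints V
  have h2 : (MulAction.fixedPoints G V) = (LinearMap.ker (y - 1) : Set V) := by
    ext v
    simp only [MulAction.mem_fixedPoints, SetLike.mem_coe, LinearMap.mem_ker, LinearMap.sub_apply,
      Module.End.one_apply, sub_eq_zero]
    constructor
    · intro h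
      exact h ⟨u, Subgroup.mem_zpowers u⟩
    · intro h g
      have hle : G ≤ MulAction.stabilizer (Module.End F V)ˣ v := by
        rw [Subgroup.zpowers_le]
        exact h
      exact hle g.2
  rw [h2] at h1
  have h3 : Nat.card V = Fintype.card F ^ finrank F V := by
    rw [Module.natCard_eq_pow_finrank (K := F), Nat.card_eq_fintype_card]
  have h4 : Nat.card (LinearMap.ker (y - 1) : Set V) = Fintype.card F ^ finrank F (LinearMap.ker (y - 1)) := by
    have := Module.natCard_eq_pow_finrank (K := F) (V := LinearMap.ker (y - 1))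
    rw [Nat.card_eq_fintype_card (α := F)] at this
    exact this
  rw [h3, h4] at h1
  exact h1

lemma actsIrred_of_ppd (x : Module.End F V) (r : ℕ) [hr : Fact r.Prime] (hx : x ^ r = 1) (hx1 : x ≠ 1)
    (hord : orderOf ((Fintype.card F : ℕ) : ZMod r) = finrank F V) (hn : 0 < finrank F V) :
    ActsIrred x := by
  set q := Fintype.card F with hq
  have hq0 : (q : ZMod r) ≠ 0 := by
    intro h
    rw [h, orderOf_zero] at hord
    omega
  have key : ∀ k j : ℕ, j ≤ k → q ^ k ≡ q ^ j [MOD r] → finrank F V ∣ k - j := by
    intro k j hjk h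
    rw [← ZMod.natCast_eq_natCast_iff] at h
    push_cast at h
    rw [← hord]
    apply orderOf_dvd_of_pow_eq_one
    have h2 : (q : ZMod r) ^ j * (q : ZMod r) ^ (k - j) = (q : ZMod r) ^ j * 1 := by
      rw [← pow_add, mul_one, Nat.add_sub_cancel' hjk, h]
    exact mul_left_cancel₀ (pow_ne_zero _ hq0) h2
  have hker : LinearMap.ker (x - 1) = ⊥ := by
    have h1 := key _ _ (Submodule.finrank_le _) (card_modEq x r hx)
    by_contra hne
    have hpos : 0 < finrank F (LinearMap.ker (x - 1)) := by
      rw [Nat.pos_iff_ne_zero, Ne, Submodule.finrank_eq_zero]; exact hne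
    have hle := Submodule.finrank_le (LinearMap.ker (x - 1))
    have h0 : finrank F V - finrank F (LinearMap.ker (x - 1)) = 0 := by
      by_contra h0
      have := Nat.le_of_dvd (Nat.pos_of_ne_zero h0) h1
      omega
    have htop : LinearMap.ker (x - 1) = ⊤ := Submodule.eq_top_of_finrank_eq (by omega)
    apply hx1
    have := LinearMap.ker_eq_top.mp htop
    exact sub_eq_zero.mp this
  intro W hW
  have hW' : ∀ w ∈ W, x w ∈ W := fun w hw => hW ⟨w, hw, rfl⟩
  let y : Module.End F W := x.restrict hW'
  have hy : y ^ r = 1 := by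
    ext w
    have h1 : ∀ k : ℕ, (((y ^ k) w : W) : V) = (x ^ k) (w : V) := by
      intro k
      induction k with
      | zero => simp
      | succ k ih =>
        rw [pow_succ', pow_succ', Module.End.mul_apply, Module.End.mul_apply, ← ih]
        rfl
    rw [h1, hx]; simp
  have hkery : LinearMap.ker (y - 1) = ⊥ := by
    rw [LinearMap.ker_eq_bot']
    intro w hw
    have h1 : (w : V) ∈ LinearMap.ker (x - 1) := by
      have := congrArg (fun z : W => (z : V)) hw
      simpa [y, sub_eq_zero] using this
    rw [hker] at h1
    exact Subtype.ext (by simpa using h1)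
  have h2 := key (finrank F W) 0 (Nat.zero_le _) (by
    have := card_modEq y r hy
    rwa [hkery, finrank_bot] at this)
  rw [Nat.sub_zero] at h2
  rcases Nat.eq_zero_or_pos (finrank F W) with h0 | hpos
  · left; exact Submodule.finrank_eq_zero.mp h0
  · right
    apply Submodule.eq_top_of_finrank_eq
    exact le_antisymm (Submodule.finrank_le W) (Nat.le_of_dvd hpos h2)

/-- the centraliser of an element of ppd order is cyclic of order `q ^ n - 1`
(stated for any group identified with `GL(V)`). -/
theorem centralizer_ppd {G : Type*} [Group G] (e : G ≃* (Module.End F V)ˣ) (x : G) (r : ℕ)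
    (hr : r.Prime) (hx : orderOf x = r)
    (hord : orderOf ((Fintype.card F : ℕ) : ZMod r) = finrank F V) (hn : 0 < finrank F V) :
    IsCyclic (Subgroup.centralizer ({x} : Set G)) ∧
      Nat.card (Subgroup.centralizer ({x} : Set G)) = Fintype.card F ^ finrank F V - 1 := by
  classical
  haveI : Fact r.Prime := ⟨hr⟩
  haveI : Nontrivial V := Module.nontrivial_of_finrank_pos hn
  haveI : Finite V := Module.finite_of_finite F
  haveI : Finite (Module.End F V) := Module.finite_of_finite F
  haveI : Finite G := Finite.of_equiv _ e.symm.toEquiv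
  set X : Module.End F V := ((e x : (Module.End F V)ˣ) : Module.End F V) with hX
  have hXr : X ^ r = 1 := by
    rw [hX, ← Units.val_pow_eq_pow_val, ← map_pow, ← hx, pow_orderOf_eq_one, map_one, Units.val_one]
  have hX1 : X ≠ 1 := by
    intro h
    have h1 : e x = 1 := Units.ext h
    have h2 : x = 1 := by simpa using h1
    rw [h2, orderOf_one] at hx
    exact hr.one_lt.ne hx
  have hirr := actsIrred_of_ppd X r hXr hX1 hord hn
  have hcomm : ∀ g : Subgroup.centralizer ({x} : Set G),
      Commute ((e g : (Module.End F V)ˣ) : Module.End F V) X := by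
    intro g
    have h1 := Subgroup.mem_centralizer_singleton_iff.mp g.2
    have h2 : e (g : G) * e x = e x * e (g : G) := by rw [← map_mul, ← map_mul, h1]
    have h3 := congrArg (fun u : (Module.End F V)ˣ => (u : Module.End F V)) h2
    simp only [Units.val_mul] at h3
    exact h3
  constructor
  · letI := adjoinCommRing X
    haveI := noZeroDivisors_adjoin hirr
    haveI : IsDomain (Algebra.adjoin F {X}) := NoZeroDivisors.to_isDomain _
    let f : Subgroup.centralizer ({x} : Set G) →* Algebra.adjoin F {X} :=
      { toFun := fun g => ⟨((e g : (Module.End F V)ˣ) : Module.End F V),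
          mem_adjoin_of_commute hirr (hcomm g)⟩
        map_one' := by ext; simp
        map_mul' := by intros; ext; simp }
    apply isCyclic_of_subgroup_isDomain f
    intro g g' h
    have h1 : ((e g : (Module.End F V)ˣ) : Module.End F V) = ((e g' : (Module.End F V)ˣ) : Module.End F V) :=
      congrArg Subtype.val h
    exact Subtype.ext (e.injective (Units.ext h1))
  · obtain ⟨v, hv⟩ := exists_ne (0 : V)
    let φ : Subgroup.centralizer ({x} : Set G) → {w : V // w ≠ 0} := fun g =>
      ⟨((e g : (Module.End F V)ˣ) : Module.End F V) v, by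
        intro h
        have h0 := eq_zero_of_commute_of_apply_eq_zero hirr (hcomm g) hv h
        exact (e (g : G)).ne_zero h0⟩
    have hφ : Function.Bijective φ := by
      constructor
      · intro g g' h
        have h1 : ((e g : (Module.End F V)ˣ) : Module.End F V) v
            = ((e g' : (Module.End F V)ˣ) : Module.End F V) v := congrArg Subtype.val h
        have h2 := eq_zero_of_commute_of_apply_eq_zero hirr ((hcomm g).sub_left (hcomm g')) hv
          (by simp [h1])
        exact Subtype.ext (e.injective (Units.ext (sub_eq_zero.mp h2)))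
      · rintro ⟨w, hw⟩
        obtain ⟨p, hp, hpw⟩ := exists_adjoin_apply_eq hirr hv w
        have hp0 : p ≠ 0 := by rintro rfl; exact hw (by simpa using hpw.symm)
        have hpc := commute_of_mem_adjoin hp
        have hinj := injective_of_commute hirr hpc hp0
        have hbij : Function.Bijective p := ⟨hinj, LinearMap.injective_iff_surjective.mp hinj⟩
        obtain ⟨u, hu⟩ := (Module.End.isUnit_iff p).mpr hbij
        refine ⟨⟨e.symm u, ?_⟩, ?_⟩
        · rw [Subgroup.mem_centralizer_singleton_iff]
          apply e.injective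
          rw [map_mul, map_mul, MulEquiv.apply_symm_apply]
          apply Units.ext
          rw [Units.val_mul, Units.val_mul, hu]
          exact hpc.eq
        · apply Subtype.ext
          change ((e (e.symm u) : (Module.End F V)ˣ) : Module.End F V) v = w
          rw [MulEquiv.apply_symm_apply, hu, hpw]
    rw [Nat.card_congr (Equiv.ofBijective φ hφ)]
    haveI := Fintype.ofFinite V
    rw [Nat.card_eq_fintype_card]
    have h1 := Set.card_ne_eq (0 : V)
    have h2 : Fintype.card V = Fintype.card F ^ finrank F V := Module.card_eq_pow_finrank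
    rw [← h2]
    convert h1

end ppd

end Cfsg.Agent.Lib.Helper99
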